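import Cfsg.Agent.H419.EP.Soc
import Cfsg.Agent.H117.EP.ModelPSL
import Cfsg.Agent.H173.EP.LineBound
import Cfsg.Agent.H729.EPM.Crude
import Cfsg.Agent.S5833
import Cfsg.Agent.S0280
import Cfsg.Agent.S0813
import Cfsg.Agent.S0265
import Cfsg.Agent.S2067
import Cfsg.Agent.ClassicalGeometry.PSL2Basic

/-!
# S3499, the row `SU₉(q)` (helper825)

The maximal subgroups of `SU₉(q)` in the residual class are, modulo scalars, `L₂(19)`, `J₃` (`q = 2`) and `L₃(q²)`.
-/

set_option autoImplicit false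

namespace Cfsg.Agent.H825.EP

open Subgroup Cfsg.Agent.H284 Cfsg.Agent.H419.EP
open scoped MatrixGroups

/-- two groups with models for the same matrix group are isomorphic -/
theorem model_equiv {Q Q' : Type*} [Group Q] [Group Q'] {ι : Type} [Fintype ι] [DecidableEq ι] {F : Type*} [Field F]
    {S : Subgroup (GL ι F)} (m : Model Q S) (m' : Model Q' S) : Nonempty (Q ≃* Q') := by
  have hk : m.π.ker = m'.π.ker := by
    ext s
    rw [MonoidHom.mem_ker, MonoidHom.mem_ker, m.ker, m'.ker]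
  exact ⟨((QuotientGroup.quotientKerEquivOfSurjective m.π m.surj).symm.trans
    (QuotientGroup.quotientMulEquivOfEq hk)).trans (QuotientGroup.quotientKerEquivOfSurjective m'.π m'.surj)⟩

/-- the order of the quotient of `SU_n(q)` -/
theorem card_model {Q : Type*} [Group Q] {F : Type*} [Field F] [Fintype F] {n q : ℕ}
    (hF : Fintype.card F = q ^ 2) (hn : 3 ≤ n) (m : Model Q (Cfsg.GU n F q ⊓ Cfsg.Geo.specialLinear (Fin n) F)) :
    Nat.gcd n (q + 1) * ((q + 1) * Nat.card Q) =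
      q ^ (n * (n - 1) / 2) * ∏ i ∈ Finset.range n, (if Even i then q ^ (i + 1) + 1 else q ^ (i + 1) - 1) := by
  obtain ⟨m'⟩ := H117.EP.model_PSU (F := F) (n := n) hF hn
  obtain ⟨e⟩ := model_equiv m m'
  rw [Nat.card_congr e.toEquiv]
  exact S0280.result hF n (by omega)

/-- `|SU₉(q)|` without the factor `q + 1` -/
theorem card_nine {Q : Type*} [Group Q] {F : Type*} [Field F] [Fintype F] {q : ℕ}
    (hF : Fintype.card F = q ^ 2) (m : Model Q (Cfsg.GU 9 F q ⊓ Cfsg.Geo.specialLinear (Fin 9) F)) :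
    Nat.gcd 9 (q + 1) * Nat.card Q = q ^ 36 * ((q ^ 2 - 1) * (q ^ 3 + 1) * (q ^ 4 - 1) * (q ^ 5 + 1) * (q ^ 6 - 1) *
      (q ^ 7 + 1) * (q ^ 8 - 1) * (q ^ 9 + 1)) := by
  have h := card_model hF (by norm_num) m
  have e : ∏ i ∈ Finset.range 9, (if Even i then q ^ (i + 1) + 1 else q ^ (i + 1) - 1) =
      (q + 1) * ((q ^ 2 - 1) * (q ^ 3 + 1) * (q ^ 4 - 1) * (q ^ 5 + 1) * (q ^ 6 - 1) * (q ^ 7 + 1) * (q ^ 8 - 1) *
        (q ^ 9 + 1)) := by
    simp only [Finset.prod_range_succ, Finset.range_zero, Finset.prod_empty]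
    rw [if_pos (by decide), if_neg (by decide), if_pos (by decide), if_neg (by decide), if_pos (by decide),
      if_neg (by decide), if_pos (by decide), if_neg (by decide), if_pos (by decide)]
    ring
  rw [e] at h
  have h2 : (q + 1) * (Nat.gcd 9 (q + 1) * Nat.card Q) = (q + 1) * (q ^ 36 * ((q ^ 2 - 1) * (q ^ 3 + 1) * (q ^ 4 - 1) *
      (q ^ 5 + 1) * (q ^ 6 - 1) * (q ^ 7 + 1) * (q ^ 8 - 1) * (q ^ 9 + 1))) := by
    rw [show (q + 1) * (Nat.gcd 9 (q + 1) * Nat.card Q) = Nat.gcd 9 (q + 1) * ((q + 1) * Nat.card Q) by ring, h]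
    norm_num
    ring
  exact Nat.eq_of_mul_eq_mul_left (by omega) h2

instance : Fact (Nat.Prime 19) := ⟨by norm_num⟩

theorem card_aut_nineteen :
    Nat.card (MulAut (Matrix.ProjectiveSpecialLinearGroup (Fin 2) (ZMod 19))) = 6840 := by
  rw [Cfsg.Agent.S0813.result 19 1 le_rfl (by rw [ZMod.card, pow_one]) 2 le_rfl (fun _ => by norm_num),
    Cfsg.Agent.S0265.result, Cfsg.Agent.ClassicalGeometry.PSL2Basic.card_SL2, ZMod.card]
  norm_num

/-- the index bound for the socle `L₂(19)` -/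
theorem index_nineteen {Q : Type*} [Group Q] [Finite Q] (hs : IsSimpleGroup Q) {A : Subgroup Q}
    {Γ : Subgroup (MulAut Q)} (h : EPT A Γ)
    (hL : HasSoc A (Matrix.ProjectiveSpecialLinearGroup (Fin 2) (ZMod 19))) : A.index ≤ 2 ^ 100 := by
  have hN : Nat.card A ∣ 6840 := by
    obtain ⟨f, hf⟩ := hL.exists_hom
    rw [← card_aut_nineteen]
    exact Subgroup.card_dvd_of_injective f hf
  have hk : ArithmeticFunction.cardFactors 6840 ≤ 6 + 1 := by
    have e : 6840 = 2 * 2 * 2 * 3 * 3 * 5 * 19 := by norm_num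
    rw [e]
    simp only [ArithmeticFunction.cardFactors_mul, ne_eq, OfNat.ofNat_ne_zero, not_false_eq_true, mul_eq_zero, or_self]
    rw [ArithmeticFunction.cardFactors_apply_prime Nat.prime_two,
      ArithmeticFunction.cardFactors_apply_prime Nat.prime_three,
      ArithmeticFunction.cardFactors_apply_prime Nat.prime_five,
      ArithmeticFunction.cardFactors_apply_prime (by norm_num)]
  have h1 := Cfsg.Agent.H173.EP.ub1 hs h (μ := 1) one_pos (fun x _ => Nat.card_pos)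
  have h2 := Nat.le_of_dvd (by norm_num) hN
  have h3 : {M : Subgroup Q | ∃ x, x ∉ A ∧ M = A ⊓ cj x A}.ncard ≤ 6840 ^ 6 := by
    refine le_trans ?_ ((H729.EPM.ncard_lt_le (A := A) (k := 6)
      ((H729.EPM.cardFactors_le (by norm_num) hN).trans hk)).trans (Nat.pow_le_pow_left h2 6))
    refine Set.ncard_le_ncard ?_ (Set.toFinite _)
    rintro M ⟨x, hx, rfl⟩
    have hle : A ⊓ cj x A ≤ A := inf_le_left
    refine lt_of_le_of_ne hle fun e => hx ?_
    have h1 : ∀ a ∈ A, x⁻¹ * a * x ∈ A := fun a ha => by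
      have h2 : a ∈ A ⊓ cj x A := by rw [e]; exact ha
      exact mem_cj.1 (mem_inf.1 h2).2
    have h2 := h.selfnorm x⁻¹ (fun a ha => by rw [inv_inv]; exact h1 a ha)
    exact (A.inv_mem_iff).1 h2
  refine h1.trans ((Nat.add_le_add_left (Nat.mul_le_mul h3 (?_ : _ ≤ 2 * 6840)) 1).trans (by norm_num))
  rw [Nat.div_one]
  omega

/-- `|Aut J₃| ≤ 2 |J₃|` -/
theorem card_aut_j3 {L : Type*} [Group L] (h : Spor.IsoJ3 L) : Nat.card (MulAut L) ≤ 100465920 := by
  obtain ⟨-, z, Q, v, ρ, n, u, F⟩ := Cfsg.Agent.KFacts.J3.exists_facts h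
  have hfin : Finite L := Nat.finite_of_card_ne_zero (by rw [F.card_K]; norm_num)
  have h1 : Nat.card (MulAut.conj : L →* MulAut L).range ≤ 50232960 := by
    rw [← F.card_K]
    exact Nat.card_le_card_of_surjective _ (MulAut.conj : L →* MulAut L).rangeRestrict_surjective
  have h2 : (MulAut.conj : L →* MulAut L).range.index ≤ 2 := by
    rcases S2067.index_le L h with h | h <;> omega
  rw [← Subgroup.card_mul_index (MulAut.conj : L →* MulAut L).range]
  exact Nat.mul_le_mul h1 h2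

/-- **The row `SU₉(q)`.** -/
theorem row {Q : Type} [Group Q] [Finite Q] (_hs : IsSimpleGroup Q) {A : Subgroup Q} {Γ : Subgroup (MulAut Q)}
    (h : EPT A Γ) {F : Type} [Field F] [Fintype F] {q : ℕ} (hF : Fintype.card F = q ^ 2)
    (m : Model Q (Cfsg.GU 9 F q ⊓ Cfsg.Geo.specialLinear (Fin 9) F))
    (hres : Cfsg.Geo.InUnitaryResidualClass (m.hat A))
    (hown : HasSoc A (Matrix.ProjectiveSpecialLinearGroup (Fin 3) F) → False)
    (h19 : HasSoc A (Matrix.ProjectiveSpecialLinearGroup (Fin 2) (ZMod 19)) → A.index ≤ 2 ^ 100)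
    (hJ3 : ∀ (L : Type) [Group L], Spor.IsoJ3 L → HasSoc A L → A.index ≤ 2 ^ 51) : False := by
  obtain ⟨P, hP, h1⟩ := Cfsg.Agent.S5833.result q hF (m.hat A) (m.isMaximalIn h.max) hres
  have hsoc := hasSoc_of_core m hP
  have hcQ := card_nine hF m
  have hidx := Subgroup.card_mul_index A
  rcases h1 with ⟨⟨e⟩, hqp, hq2, -⟩ | ⟨hJ, rfl⟩ | ⟨⟨e⟩⟩
  · have hs19 := hsoc.congr e
    have h2 := h19 hs19
    have h3 := hs19.card_le
    rw [card_aut_nineteen] at h3
    have h4 : Nat.card Q ≤ 6840 * 2 ^ 100 := by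
      rw [← hidx]
      exact Nat.mul_le_mul h3 h2
    have hq3 : 3 ≤ q := by
      have := hqp.two_le
      omega
    have hg : Nat.gcd 9 (q + 1) ≤ 9 := Nat.gcd_le_left _ (by norm_num)
    have hpow : ∀ k : ℕ, 3 ^ k ≤ q ^ k := fun k => Nat.pow_le_pow_left hq3 k
    have h5 : 3 ^ 36 * ((3 ^ 2 - 1) * (3 ^ 3 + 1) * (3 ^ 4 - 1) * (3 ^ 5 + 1) * (3 ^ 6 - 1) *
      (3 ^ 7 + 1) * (3 ^ 8 - 1) * (3 ^ 9 + 1)) ≤ q ^ 36 * ((q ^ 2 - 1) * (q ^ 3 + 1) * (q ^ 4 - 1) * (q ^ 5 + 1) *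
        (q ^ 6 - 1) * (q ^ 7 + 1) * (q ^ 8 - 1) * (q ^ 9 + 1)) := by
      have := hpow 2; have := hpow 3; have := hpow 4; have := hpow 5; have := hpow 6; have := hpow 7
      have := hpow 8; have := hpow 9
      gcongr
    rw [← hcQ] at h5
    have h6 : Nat.gcd 9 (q + 1) * Nat.card Q ≤ 9 * (6840 * 2 ^ 100) := Nat.mul_le_mul hg h4
    have h7 := h5.trans h6
    norm_num at h7
  · have h2 := hJ3 _ hJ hsoc
    have : Finite (P ⧸ (Cfsg.Geo.scalars (Fin 9) F).subgroupOf P) := by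
      have : Finite (GL (Fin 9) F) := inferInstance
      exact Quotient.finite _
    have h3 := hsoc.card_le.trans (card_aut_j3 hJ)
    have h4 : Nat.card Q ≤ 100465920 * 2 ^ 51 := by
      rw [← hidx]
      exact Nat.mul_le_mul h3 h2
    norm_num at hcQ h4
    omega
  · exact hown (hsoc.congr e)

/-- **The row `SU₉(q)`**, without the hypothesis for `L₂(19)`. -/
theorem row_two {Q : Type} [Group Q] [Finite Q] (hs : IsSimpleGroup Q) {A : Subgroup Q} {Γ : Subgroup (MulAut Q)}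
    (h : EPT A Γ) {F : Type} [Field F] [Fintype F] {q : ℕ} (hF : Fintype.card F = q ^ 2)
    (m : Model Q (Cfsg.GU 9 F q ⊓ Cfsg.Geo.specialLinear (Fin 9) F))
    (hres : Cfsg.Geo.InUnitaryResidualClass (m.hat A))
    (hown : HasSoc A (Matrix.ProjectiveSpecialLinearGroup (Fin 3) F) → False)
    (hJ3 : ∀ (L : Type) [Group L], Spor.IsoJ3 L → HasSoc A L → A.index ≤ 2 ^ 51) : False :=
  row hs h hF m hres hown (index_nineteen hs h) hJ3

end Cfsg.Agent.H825.EP
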